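import Mathlib
import Cfsg.Prelude.Def_Characters
import Cfsg.Prelude.Def_Sporadic_a
import Cfsg.Prelude.Def_Sporadic

set_option autoImplicit false

/-!
# Uniqueness of the simple group of order `7920` (S0420): definitions and package statements

Team project; every `Pkg…` below is a `Prop` proved in its own file by its owner, and
`Assembly.lean` derives S0420 from all of them.
-/

namespace Cfsg.Agent.Lib.Helper93.M11U

universe u v

/-- the sum of a function over a subgroup -/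
noncomputable def sumOn {G : Type u} [Group G] (χ : G → ℂ) (H : Subgroup G) : ℂ :=
  ∑ᶠ h : H, χ (h : G)

/-- the number of fixed points of `g` on the cosets of `K` -/
noncomputable def fixCount {G : Type u} [Group G] (K : Subgroup G) (g : G) : ℕ :=
  Nat.card {q : G ⧸ K // g • q = q}

/-- the conjugate subgroup `g K g⁻¹` -/
def conjSub {G : Type u} [Group G] (g : G) (K : Subgroup G) : Subgroup G :=
  K.map (MulAut.conj g).toMonoidHom

/-- the irreducible characters of a simple group of order `7920`, with their values at the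
elements of orders `1, 2, 3, 5` -/
structure Tab (G : Type u) [Group G] where
  ψ : Cfsg.IrrCharacter G
  χ₁ : Cfsg.IrrCharacter G
  χ45 : Cfsg.IrrCharacter G
  χa : Cfsg.IrrCharacter G
  χb : Cfsg.IrrCharacter G
  χc : Cfsg.IrrCharacter G
  η₁ : Cfsg.IrrCharacter G
  η₂ : Cfsg.IrrCharacter G
  θ₁ : Cfsg.IrrCharacter G
  θ₂ : Cfsg.IrrCharacter G
  bij : Function.Bijective
    (![ψ, χ₁, χ45, χa, χb, χc, η₁, η₂, θ₁, θ₂] : Fin 10 → Cfsg.IrrCharacter G)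
  one : ∀ g : G, (χ₁ : G → ℂ) g = 1
  deg : (ψ : G → ℂ) 1 = 55 ∧ (χ45 : G → ℂ) 1 = 45 ∧ (χa : G → ℂ) 1 = 10 ∧
    (χb : G → ℂ) 1 = 10 ∧ (χc : G → ℂ) 1 = 10 ∧ (η₁ : G → ℂ) 1 = 16 ∧ (η₂ : G → ℂ) 1 = 16 ∧
    (θ₁ : G → ℂ) 1 = 11 ∧ (θ₂ : G → ℂ) 1 = 44
  v2 : ∀ t : G, orderOf t = 2 → (ψ : G → ℂ) t = -1 ∧ (χ45 : G → ℂ) t = -3 ∧
    (χa : G → ℂ) t = 2 ∧ (χb : G → ℂ) t = -2 ∧ (χc : G → ℂ) t = -2 ∧ (η₁ : G → ℂ) t = 0 ∧
    (η₂ : G → ℂ) t = 0 ∧ (θ₁ : G → ℂ) t = 3 ∧ (θ₂ : G → ℂ) t = 4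
  v3 : ∀ x : G, orderOf x = 3 → (ψ : G → ℂ) x = 1 ∧ (χ45 : G → ℂ) x = 0 ∧
    (χa : G → ℂ) x = 1 ∧ (χb : G → ℂ) x = 1 ∧ (χc : G → ℂ) x = 1 ∧ (η₁ : G → ℂ) x = -2 ∧
    (η₂ : G → ℂ) x = -2 ∧ (θ₁ : G → ℂ) x = 2 ∧ (θ₂ : G → ℂ) x = -1
  v5 : ∀ z : G, orderOf z = 5 → (ψ : G → ℂ) z = 0 ∧ (χ45 : G → ℂ) z = 0 ∧
    (χa : G → ℂ) z = 0 ∧ (χb : G → ℂ) z = 0 ∧ (χc : G → ℂ) z = 0 ∧ (η₁ : G → ℂ) z = 1 ∧
    (η₂ : G → ℂ) z = 1 ∧ (θ₁ : G → ℂ) z = 1 ∧ (θ₂ : G → ℂ) z = -1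

/-- the configuration: a subgroup `K` of order `660` whose permutation character is `1 + θ₁`,
which is `2`-transitive on its cosets, an element `f ∈ K` of order `5` and an element `u ∉ K`
of order `4` normalizing `⟨f⟩` with `u² ∈ K` -/
structure Conf (G : Type u) [Group G] (T : Tab G) where
  K : Subgroup G
  f : G
  u : G
  cardK : Nat.card K = 660
  perm : ∀ g : G, (fixCount K g : ℂ) = 1 + (T.θ₁ : G → ℂ) g
  two : ∀ g : G, g ∉ K → Nat.card ↥(K ⊓ conjSub g K) = 60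
  hf : orderOf f = 5
  hfK : f ∈ K
  hu : orderOf u = 4
  hun : u * f * u⁻¹ ∈ Subgroup.zpowers f
  huK : u ∉ K
  htK : u * u ∈ K

variable {G : Type u} [Group G] {T : Tab G}

/-- the two-point stabilizer `K ∩ uKu⁻¹` -/
def X0 (C : Conf G T) : Subgroup G := C.K ⊓ conjSub C.u C.K

/-- `⟨X0, u⟩` -/
def Y0 (C : Conf G T) : Subgroup G := X0 C ⊔ Subgroup.zpowers C.u

/-- the normalizer of `⟨f⟩` -/
def NF (C : Conf G T) : Subgroup G := Subgroup.normalizer (Subgroup.zpowers C.f : Set G)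

/-- the facts about `X0` -/
def X0Facts (C : Conf G T) : Prop :=
  Nonempty (↥(X0 C) ≃* alternatingGroup (Fin 5)) ∧ Nat.card ↥(X0 C) = 60 ∧ C.f ∈ X0 C ∧
    C.u * C.u ∈ X0 C ∧ ∀ x ∈ X0 C, C.u * x * C.u⁻¹ ∈ X0 C

/-- the facts about `Y0` -/
def Y0Facts (C : Conf G T) : Prop :=
  Nat.card ↥(Y0 C) = 120 ∧ X0 C ≤ Y0 C ∧ NF C ≤ Y0 C ∧ Nat.card ↥(NF C) = 20

/-! ## General packages -/

/-- [FIXDIM] the sum of a character over a subgroup `H` is `|H|` times the dimension `d H` of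
the fixed space of `H`, and `d` is antitone -/
def PkgFixDim : Prop :=
  ∀ (G : Type u) [Group G] [Finite G] (χ : G → ℂ), Cfsg.IsCharacter G χ →
    ∃ d : Subgroup G → ℕ, (∀ H : Subgroup G, sumOn χ H = (Nat.card H : ℂ) * (d H : ℂ)) ∧
      ∀ H H' : Subgroup G, H ≤ H' → d H' ≤ d H

/-- [STAB] the stabilizer of a common fixed vector: if `F ≤ H₁`, `F ≤ H₂`, the fixed spaces of
`F` and `H₂` in an irreducible nonlinear `χ` have the same dimension and `H₁` has a nonzero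
fixed vector, then `H₁` and `H₂` lie in a proper subgroup `M` having a nonzero fixed vector. -/
def PkgStab : Prop :=
  ∀ (G : Type u) [Group G] [Finite G] (χ : G → ℂ), Cfsg.IsIrrCharacter G χ → χ 1 ≠ 1 →
    ∀ F H₁ H₂ : Subgroup G, F ≤ H₁ → F ≤ H₂ →
      sumOn χ F * (Nat.card H₂ : ℂ) = sumOn χ H₂ * (Nat.card F : ℂ) → sumOn χ H₁ ≠ 0 →
      ∃ M : Subgroup G, H₁ ≤ M ∧ H₂ ≤ M ∧ M ≠ ⊤ ∧ sumOn χ M ≠ 0

/-- [PERM2] if the irreducible nonlinear `χ` of degree `[G : K] - 1` has a nonzero `K`-fixed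
vector then the permutation character of `G` on `G ⧸ K` is `1 + χ`. -/
def PkgPerm2 : Prop :=
  ∀ (G : Type u) [Group G] [Finite G] (K : Subgroup G) (χ : G → ℂ), Cfsg.IsIrrCharacter G χ →
    χ 1 ≠ 1 → χ 1 + 1 = (K.index : ℂ) → sumOn χ K ≠ 0 →
    (∀ g : G, (fixCount K g : ℂ) = 1 + χ g) ∧ sumOn χ K = (Nat.card K : ℂ)

/-- [REGSUM] the regular character summed over a subgroup -/
def PkgRegSum : Prop :=
  ∀ (G : Type u) [Group G] [Finite G] (T : Tab G) (H : Subgroup G),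
    sumOn (T.χ₁ : G → ℂ) H + 55 * sumOn (T.ψ : G → ℂ) H + 45 * sumOn (T.χ45 : G → ℂ) H +
      10 * sumOn (T.χa : G → ℂ) H + 10 * sumOn (T.χb : G → ℂ) H +
      10 * sumOn (T.χc : G → ℂ) H + 16 * sumOn (T.η₁ : G → ℂ) H +
      16 * sumOn (T.η₂ : G → ℂ) H + 11 * sumOn (T.θ₁ : G → ℂ) H +
      44 * sumOn (T.θ₂ : G → ℂ) H = (Nat.card G : ℂ)

/-- [TRANSPORT] isomorphic set systems have isomorphic automorphism groups -/
def PkgTransport : Prop :=
  ∀ (α : Type u) (β : Type v) [DecidableEq α] [DecidableEq β] (B : Set (Finset α))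
    (B' : Set (Finset β)), Cfsg.SetSystemIso B B' →
    Nonempty (↥(Cfsg.setSystemAut B) ≃* ↥(Cfsg.setSystemAut B'))

/-- [SHARP] a group of order `7920` acting on `11` cosets so that no nonidentity element fixes
four of them is sharply `4`-transitive -/
def PkgSharp : Prop :=
  ∀ (G : Type u) [Group G] [Finite G] (M : Subgroup G), Nat.card G = 7920 → M.index = 11 →
    (∀ g : G, g ≠ 1 → fixCount M g ≤ 3) →
    ∀ x y : Fin 4 ↪ G ⧸ M, ∃! g : G, ∀ i, g • x i = y i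

/-- [STEINER] a sharply `4`-transitive group all of whose elements of order `3` fix exactly two
points preserves a Steiner system `S(4, 5, ·)` -/
def PkgSteiner : Prop :=
  ∀ (G : Type u) [Group G] [Finite G] (Ω : Type u) [MulAction G Ω] [Finite Ω],
    (∀ x y : Fin 4 ↪ Ω, ∃! g : G, ∀ i, g • x i = y i) →
    (∀ x : G, orderOf x = 3 → Nat.card {q : Ω // x • q = q} = 2) →
    ∃ B : Set (Finset Ω), Cfsg.IsSteinerSystem 4 5 B ∧
      ∀ (g : G) (b : Finset Ω), b ∈ B → b.map (MulAction.toPerm g).toEmbedding ∈ B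

/-- [EMBED] a group of order `7920` acting sharply `4`-transitively on `11` points and
preserving a Steiner system `S(4, 5, 11)` is its full automorphism group -/
def PkgEmbed : Prop :=
  ∀ (G : Type u) [Group G] [Finite G] (Ω : Type u) [MulAction G Ω] [Fintype Ω] [DecidableEq Ω]
    (B : Set (Finset Ω)), Nat.card G = 7920 → Fintype.card Ω = 11 →
    (∀ x y : Fin 4 ↪ Ω, ∃! g : G, ∀ i, g • x i = y i) → Cfsg.IsSteinerSystem 4 5 B →
    (∀ (g : G) (b : Finset Ω), b ∈ B → b.map (MulAction.toPerm g).toEmbedding ∈ B) →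
    Nonempty (G ≃* ↥(Cfsg.setSystemAut B))

/-! ## Packages about a simple group of order `7920` -/

/-- [TAB] the character table at the elements of orders `1, 2, 3, 5` -/
def PkgTab : Prop :=
  ∀ (G : Type u) [Group G] [Finite G], IsSimpleGroup G → Nat.card G = 7920 → Nonempty (Tab G)

/-- [K12] a subgroup of order `660` with a fixed vector in `θ₁` -/
def PkgK12 : Prop :=
  ∀ (G : Type u) [Group G] [Finite G] (T : Tab G), IsSimpleGroup G → Nat.card G = 7920 →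
    PkgFixDim.{u} → PkgStab.{u} →
    ∃ K : Subgroup G, Nat.card K = 660 ∧ sumOn (T.θ₁ : G → ℂ) K ≠ 0

/-- [KSIMPLE] a subgroup of order `660` is simple -/
def PkgKSimple : Prop :=
  ∀ (G : Type u) [Group G] [Finite G], IsSimpleGroup G → Nat.card G = 7920 →
    ∀ K : Subgroup G, Nat.card K = 660 → IsSimpleGroup K

/-- [RANK2] permutation character `1 + θ` with `⟨θ|_K, 1⟩ = 1`: the action is `2`-transitive -/
def PkgRank2 : Prop :=
  ∀ (G : Type u) [Group G] [Finite G] (K : Subgroup G) (θ : G → ℂ), Nat.card G = 7920 →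
    Nat.card K = 660 → (∀ g : G, (fixCount K g : ℂ) = 1 + θ g) →
    sumOn θ K = (Nat.card K : ℂ) → ∀ g : G, g ∉ K → Nat.card ↥(K ⊓ conjSub g K) = 60

/-- [FU] the elements `f` and `u` -/
def PkgFU : Prop :=
  ∀ (G : Type u) [Group G] [Finite G], IsSimpleGroup G → Nat.card G = 7920 →
    ∀ K : Subgroup G, Nat.card K = 660 →
    ∃ f u : G, orderOf f = 5 ∧ f ∈ K ∧ orderOf u = 4 ∧ u * f * u⁻¹ ∈ Subgroup.zpowers f ∧
      u ∉ K ∧ u * u ∈ K

/-- [X0] the two-point stabilizer is `A₅`, normalized by `u` -/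
def PkgX0 : Prop :=
  ∀ (G : Type u) [Group G] [Finite G] (T : Tab G), IsSimpleGroup G → Nat.card G = 7920 →
    ∀ C : Conf G T, X0Facts C

/-- [A5SUM] the character sums over a subgroup isomorphic to `A₅` -/
def PkgA5Sum : Prop :=
  ∀ (G : Type u) [Group G] [Finite G] (T : Tab G) (X : Subgroup G),
    Nonempty (↥X ≃* alternatingGroup (Fin 5)) →
    sumOn (T.χ₁ : G → ℂ) X = 60 ∧ sumOn (T.ψ : G → ℂ) X = 60 ∧
      sumOn (T.χ45 : G → ℂ) X = 0 ∧ sumOn (T.χa : G → ℂ) X = 60 ∧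
      sumOn (T.χb : G → ℂ) X = 0 ∧ sumOn (T.χc : G → ℂ) X = 0 ∧
      sumOn (T.η₁ : G → ℂ) X = 0 ∧ sumOn (T.η₂ : G → ℂ) X = 0 ∧
      sumOn (T.θ₁ : G → ℂ) X = 120 ∧ sumOn (T.θ₂ : G → ℂ) X = 60

/-- [Y0CARD] `Y0 = X0⟨u⟩` has order `120` and contains `N(⟨f⟩)`, of order `20` -/
def PkgY0Card : Prop :=
  ∀ (G : Type u) [Group G] [Finite G] (T : Tab G), IsSimpleGroup G → Nat.card G = 7920 →
    ∀ C : Conf G T, X0Facts C → Y0Facts C

/-- [Y0ISO] `Y0` is the symmetric group of degree `5` -/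
def PkgY0Iso : Prop :=
  ∀ (G : Type u) [Group G] [Finite G] (T : Tab G), IsSimpleGroup G → Nat.card G = 7920 →
    ∀ C : Conf G T, X0Facts C → Y0Facts C → Nonempty (↥(Y0 C) ≃* Equiv.Perm (Fin 5))

/-- [DIH] an involution inverting `u` -/
def PkgDih : Prop :=
  ∀ (G : Type u) [Group G] [Finite G] (T : Tab G) (C : Conf G T),
    Nonempty (↥(Y0 C) ≃* Equiv.Perm (Fin 5)) →
    ∃ s : G, orderOf s = 2 ∧ s * C.u * s⁻¹ = C.u⁻¹

/-- [Y0FIX] `Y0` has a one-dimensional fixed space in `χa` -/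
def PkgY0Fix : Prop :=
  ∀ (G : Type u) [Group G] [Finite G] (T : Tab G), Nat.card G = 7920 →
    ∀ C : Conf G T, X0Facts C → Y0Facts C → PkgFixDim.{u} → PkgRegSum.{u} → PkgA5Sum.{u} →
    sumOn (T.χa : G → ℂ) (Y0 C) = 120

/-- [F20] `N(⟨f⟩)` fixes the whole fixed space of `⟨f⟩` in `χa` -/
def PkgF20 : Prop :=
  ∀ (G : Type u) [Group G] [Finite G] (T : Tab G), IsSimpleGroup G → Nat.card G = 7920 →
    ∀ C : Conf G T, Y0Facts C → sumOn (T.χa : G → ℂ) (Y0 C) = 120 →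
    (∃ s : G, orderOf s = 2 ∧ s * C.u * s⁻¹ = C.u⁻¹) → PkgFixDim.{u} →
    sumOn (T.χa : G → ℂ) (NF C) = 40

/-- [X1] a second subgroup `A₅` of `K` containing `f` -/
def PkgX1 : Prop :=
  ∀ (G : Type u) [Group G] [Finite G] (T : Tab G) (C : Conf G T), IsSimpleGroup C.K →
    X0Facts C →
    ∃ X₁ : Subgroup G, X₁ ≤ C.K ∧ C.f ∈ X₁ ∧ Nonempty (↥X₁ ≃* alternatingGroup (Fin 5)) ∧
      X₁ ≠ X0 C

/-- [M720] a subgroup of order `720` with a fixed vector in `χa` -/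
def PkgM720 : Prop :=
  ∀ (G : Type u) [Group G] [Finite G] (T : Tab G), IsSimpleGroup G → Nat.card G = 7920 →
    ∀ C : Conf G T, Nat.card ↥(X0 C) = 60 → Nat.card ↥(NF C) = 20 →
    ∀ X₁ : Subgroup G, X₁ ≤ C.K → C.f ∈ X₁ → Nat.card X₁ = 60 → X₁ ≠ X0 C →
      sumOn (T.χa : G → ℂ) X₁ = 60 → sumOn (T.χa : G → ℂ) (NF C) = 40 → PkgStab.{u} →
      ∃ M : Subgroup G, Nat.card M = 720 ∧ sumOn (T.χa : G → ℂ) M ≠ 0

/-- [IDX11] the action on the `11` cosets of `M` -/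
def PkgIdx11 : Prop :=
  ∀ (G : Type u) [Group G] [Finite G] (T : Tab G), IsSimpleGroup G → Nat.card G = 7920 →
    ∀ M : Subgroup G, Nat.card M = 720 → sumOn (T.χa : G → ℂ) M ≠ 0 → PkgPerm2.{u} →
    M.index = 11 ∧ (∀ g : G, g ≠ 1 → fixCount M g ≤ 3) ∧
      ∀ x : G, orderOf x = 3 → fixCount M x = 2

/-- [MAIN] a simple group of order `7920` is the automorphism group of a Steiner system
`S(4, 5, 11)` -/
def PkgMain : Prop :=
  ∀ (G : Type u) [Group G] [Finite G], IsSimpleGroup G → Nat.card G = 7920 →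
    ∃ (Ω : Type u) (_ : Fintype Ω) (_ : DecidableEq Ω) (B : Set (Finset Ω)),
      Fintype.card Ω = 11 ∧ Cfsg.IsSteinerSystem 4 5 B ∧
      Nonempty (G ≃* ↥(Cfsg.setSystemAut B))

end Cfsg.Agent.Lib.Helper93.M11U
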