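import Mathlib
import Cfsg.Agent.Lib.Helper93.M11U.Defs
import Cfsg.Agent.S0411
import Cfsg.Agent.S0387
import Cfsg.Agent.S0388

set_option autoImplicit false

/-!
# Uniqueness of the simple group of order `7920` (S0420): assembly from the packages
-/

namespace Cfsg.Agent.Lib.Helper93.M11U

universe u

theorem card_A5' : Nat.card (alternatingGroup (Fin 5)) = 60 := by
  rw [Nat.card_eq_fintype_card]
  decide

/-- the chain of packages gives `PkgMain` -/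
theorem main_of (hFixDim : PkgFixDim.{u}) (hStab : PkgStab.{u}) (hPerm2 : PkgPerm2.{u})
    (hRegSum : PkgRegSum.{u}) (hSharp : PkgSharp.{u}) (hSteiner : PkgSteiner.{u})
    (hEmbed : PkgEmbed.{u}) (hTab : PkgTab.{u}) (hK12 : PkgK12.{u}) (hKSimple : PkgKSimple.{u})
    (hRank2 : PkgRank2.{u}) (hFU : PkgFU.{u}) (hX0 : PkgX0.{u}) (hA5Sum : PkgA5Sum.{u})
    (hY0Card : PkgY0Card.{u}) (hY0Iso : PkgY0Iso.{u}) (hDih : PkgDih.{u})
    (hY0Fix : PkgY0Fix.{u}) (hF20 : PkgF20.{u}) (hX1 : PkgX1.{u}) (hM720 : PkgM720.{u})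
    (hIdx11 : PkgIdx11.{u}) : PkgMain.{u} := by
  intro G _ _ hS hG
  obtain ⟨T⟩ := hTab G hS hG
  obtain ⟨K, hK, hKne⟩ := hK12 G T hS hG hFixDim hStab
  have hidx : K.index = 12 := by
    have := K.card_mul_index
    rw [hK, hG] at this
    omega
  have hθ1 : (T.θ₁ : G → ℂ) 1 = 11 := T.deg.2.2.2.2.2.2.2.1
  obtain ⟨hperm, hsumK⟩ := hPerm2 G K (T.θ₁ : G → ℂ) T.θ₁.2 (by rw [hθ1]; norm_num)
    (by rw [hθ1, hidx]; norm_num) hKne
  have htwo := hRank2 G K (T.θ₁ : G → ℂ) hG hK hperm hsumK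
  obtain ⟨f, u, hf, hfK, hu, hun, huK, htK⟩ := hFU G hS hG K hK
  obtain ⟨C, hC⟩ : ∃ C : Conf G T, C = ⟨K, f, u, hK, hperm, htwo, hf, hfK, hu, hun, huK, htK⟩ :=
    ⟨_, rfl⟩
  have hCK : C.K = K := by rw [hC]
  have hX0F := hX0 G T hS hG C
  have hKS : IsSimpleGroup C.K := by rw [hCK]; exact hKSimple G hS hG K hK
  have hY0F := hY0Card G T hS hG C hX0F
  have hiso := hY0Iso G T hS hG C hX0F hY0F
  have hs := hDih G T C hiso
  have hfix := hY0Fix G T hG C hX0F hY0F hFixDim hRegSum hA5Sum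
  have h40 := hF20 G T hS hG C hY0F hfix hs hFixDim
  obtain ⟨X₁, hX₁K, hfX₁, hX₁iso, hX₁ne⟩ := hX1 G T C hKS hX0F
  have hX₁sum := (hA5Sum G T X₁ hX₁iso).2.2.2.1
  have hX₁card : Nat.card X₁ = 60 := by
    obtain ⟨e⟩ := hX₁iso
    rw [Nat.card_congr e.toEquiv, card_A5']
  obtain ⟨M, hM, hMne⟩ := hM720 G T hS hG C hX0F.2.1 hY0F.2.2.2 X₁ hX₁K hfX₁ hX₁card hX₁ne
    hX₁sum h40 hStab
  obtain ⟨hMidx, hfix3, hthree⟩ := hIdx11 G T hS hG M hM hMne hPerm2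
  have hsharp := hSharp G M hG hMidx hfix3
  obtain ⟨B, hB, hinv⟩ := hSteiner G (G ⧸ M) hsharp hthree
  classical
  let _ : Fintype (G ⧸ M) := Fintype.ofFinite _
  have hcard : Fintype.card (G ⧸ M) = 11 := by
    rw [← Nat.card_eq_fintype_card, ← hMidx]
    rfl
  exact ⟨G ⧸ M, inferInstance, inferInstance, B, hcard, hB,
    hEmbed G (G ⧸ M) B hG hcard hsharp hB hinv⟩

open scoped Pointwise in
/-- **S0420 from the packages**: a simple group of order `7920` is isomorphic to the stabilizer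
in `M₂₄` of a dodecad and one of its points. -/
theorem s0420_of (h1 : PkgMain.{u}) (h0 : PkgMain.{0}) (hT : PkgTransport.{u, 0})
    {G : Type u} [Group G] [Finite G] (hG : Cfsg.IsM11 G) (d : Finset Cfsg.GolayPt)
    (hd : d ∈ Cfsg.dodecads) (p : Cfsg.GolayPt) (hp : p ∈ d) :
    Nonempty (G ≃* ↥(MulAction.stabilizer Cfsg.M24 d ⊓ MulAction.stabilizer Cfsg.M24 p)) := by
  obtain ⟨Ω, _, _, B, hΩ, hB, ⟨e⟩⟩ := h1 G hG.1 hG.2
  have hHs := Cfsg.Agent.S0388.result d hd p hp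
  have hHc := Cfsg.Agent.S0387.result d hd p hp
  obtain ⟨Ω', _, _, B', hΩ', hB', ⟨e'⟩⟩ := h0 _ hHs hHc
  have hiso := Cfsg.Agent.S0411.result hΩ hΩ' hB hB'
  obtain ⟨t⟩ := hT Ω Ω' B B' hiso
  exact ⟨(e.trans t).trans e'.symm⟩

end Cfsg.Agent.Lib.Helper93.M11U
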