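import Mathlib
import Cfsg.Agent.Lib.Helper93.M11U.Defs
import Cfsg.Agent.Lib.Helper5.PSL11Main

set_option autoImplicit false
open scoped Pointwise

/-!
# S0420, package [X1]: a second subgroup `A₅` of `K` containing `f`
-/

namespace Cfsg.Agent.Lib.Helper93.M11U

universe u

/-- in a group of order `660` a subgroup generated by an element of order `5` is a Sylow
`5`-subgroup -/
theorem sylow_of_order5 {Γ : Type*} [Group Γ] [Finite Γ] (hΓ : Nat.card Γ = 660) (y : Γ)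
    (hy : orderOf y = 5) : ∃ P : Sylow 5 Γ, (P : Subgroup Γ) = Subgroup.zpowers y := by
  have : Fact (Nat.Prime 5) := ⟨by norm_num⟩
  have hcard : Nat.card (Subgroup.zpowers y) = 5 := by rw [Nat.card_zpowers, hy]
  have hpg : IsPGroup 5 (Subgroup.zpowers y) :=
    IsPGroup.of_card (n := 1) (by rw [hcard, pow_one])
  obtain ⟨P, hle⟩ := hpg.exists_le_sylow
  obtain ⟨n, hn⟩ := IsPGroup.iff_card.mp P.isPGroup'
  have hdvd : Nat.card (P : Subgroup Γ) ∣ 660 := hΓ ▸ Subgroup.card_subgroup_dvd_card _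
  have hn1 : n ≤ 1 := by
    by_contra hcon
    have h25 : 25 ∣ 5 ^ n := by
      have : (5 : ℕ) ^ 2 ∣ 5 ^ n := pow_dvd_pow 5 (by omega)
      simpa using this
    rw [hn] at hdvd
    have := h25.trans hdvd
    norm_num at this
  have hle5 : Nat.card (P : Subgroup Γ) ≤ 5 := by
    rw [hn]
    calc 5 ^ n ≤ 5 ^ 1 := Nat.pow_le_pow_right (by norm_num) hn1
      _ = 5 := by norm_num
  exact ⟨P, (Subgroup.eq_of_le_of_card_ge hle (by rw [hcard]; exact hle5)).symm⟩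

/-- **Package [X1]** -/
theorem pkgX1 : PkgX1.{u} := by
  intro G _ _ T C hKS hX0F
  classical
  obtain ⟨hiso, hcard60, hfX0, -, -⟩ := hX0F
  have : Fact (Nat.Prime 5) := ⟨by norm_num⟩
  have hΓ : Nat.card C.K = 660 := C.cardK
  obtain ⟨-, H, K', hH, hK', hne, hall⟩ :=
    Cfsg.Agent.Lib.Helper5.PSL11.count_A5 (Γ := C.K) hΓ
  have hX0K : X0 C ≤ C.K := inf_le_left
  obtain ⟨X0', hX0'⟩ : ∃ X0' : Subgroup C.K, X0' = (X0 C).subgroupOf C.K := ⟨_, rfl⟩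
  have hX0'iso : Nonempty (X0' ≃* alternatingGroup (Fin 5)) := by
    obtain ⟨e⟩ := hiso
    rw [hX0']
    exact ⟨(Subgroup.subgroupOfEquivOfLe hX0K).trans e⟩
  obtain ⟨Z, hZ, hZne⟩ : ∃ Z : Subgroup C.K, Nonempty (Z ≃* alternatingGroup (Fin 5)) ∧
      ∀ g : C.K, MulAut.conj g • X0' ≠ Z := by
    obtain ⟨g₀, h | h⟩ := hall X0' hX0'iso
    · refine ⟨K', hK', fun g hg => hne (g * g₀⁻¹) ?_⟩
      rw [← h, ← hg, smul_smul, ← map_mul]
      simp
    · refine ⟨H, hH, fun g hg => hne (g₀ * g⁻¹) ?_⟩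
      rw [← h, ← hg, smul_smul, ← map_mul]
      simp
  have hZcard : Nat.card Z = 60 := Cfsg.Agent.Lib.Helper5.PSL11.card_A5 Z hZ
  obtain ⟨z, hz⟩ := exists_prime_orderOf_dvd_card' (G := Z) 5 (by rw [hZcard]; norm_num)
  have hz' : orderOf (z : C.K) = 5 := by rw [Subgroup.orderOf_coe]; exact hz
  obtain ⟨f', hf'⟩ : ∃ f' : C.K, f' = ⟨C.f, C.hfK⟩ := ⟨_, rfl⟩
  have hf'o : orderOf f' = 5 := by
    rw [← Subgroup.orderOf_coe, hf']
    exact C.hf
  obtain ⟨Pz, hPz⟩ := sylow_of_order5 hΓ (z : C.K) hz'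
  obtain ⟨Pf, hPf⟩ := sylow_of_order5 hΓ f' hf'o
  obtain ⟨k, hk⟩ := MulAction.exists_smul_eq C.K Pz Pf
  have hk' : MulAut.conj k • Subgroup.zpowers (z : C.K) = Subgroup.zpowers f' := by
    rw [← hPz, ← hPf, ← hk]
    rfl
  obtain ⟨Z₁, hZ₁⟩ : ∃ Z₁ : Subgroup C.K, Z₁ = MulAut.conj k • Z := ⟨_, rfl⟩
  have hfZ₁ : f' ∈ Z₁ := by
    have h1 : Subgroup.zpowers (z : C.K) ≤ Z := by
      rw [Subgroup.zpowers_le]; exact z.2
    have h2 : MulAut.conj k • Subgroup.zpowers (z : C.K) ≤ MulAut.conj k • Z :=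
      Subgroup.pointwise_smul_le_pointwise_smul_iff.mpr h1
    rw [hZ₁]
    apply h2
    rw [hk']
    exact Subgroup.mem_zpowers f'
  have hZ₁iso : Nonempty (Z₁ ≃* alternatingGroup (Fin 5)) := by
    obtain ⟨e⟩ := hZ
    rw [hZ₁]
    exact ⟨(Subgroup.equivSMul (MulAut.conj k) Z).symm.trans e⟩
  have hZ₁ne : Z₁ ≠ X0' := by
    intro h
    apply hZne k⁻¹
    rw [← h, hZ₁, smul_smul, ← map_mul]
    simp
  refine ⟨Z₁.map C.K.subtype, Subgroup.map_subtype_le Z₁, ?_, ?_, ?_⟩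
  · exact ⟨f', hfZ₁, by rw [hf']; rfl⟩
  · obtain ⟨e⟩ := hZ₁iso
    exact ⟨(Subgroup.equivMapOfInjective Z₁ C.K.subtype
      (Subgroup.subtype_injective _)).symm.trans e⟩
  · intro h
    apply hZ₁ne
    rw [hX0']
    change Z₁ = (X0 C).comap C.K.subtype
    rw [← h, Subgroup.comap_map_eq_self_of_injective (Subgroup.subtype_injective _)]

end Cfsg.Agent.Lib.Helper93.M11U
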