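import Mathlib
import Cfsg.Agent.Lib.Helper93.M11U.Defs
import Cfsg.Agent.Lib.Helper93.M11U.X1
import Cfsg.Agent.Lib.Helper91.M11Inv

set_option autoImplicit false

/-!
# S0420, package [FU]: the elements `f` and `u`
-/

namespace Cfsg.Agent.Lib.Helper93.M11U

open Cfsg.Agent.Lib.Helper91.M11

universe u

/-- an involution normalizing a group `⟨f⟩` of order `5` without centralizing it inverts `f` -/
theorem inv_of_sq {G : Type u} [Group G] (f t : G) (hf : orderOf f = 5) (ht : t * t = 1)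
    (hn : t * f * t⁻¹ ∈ Subgroup.zpowers f) (hc : t * f * t⁻¹ ≠ f) : t * f * t⁻¹ = f⁻¹ := by
  obtain ⟨k, hk⟩ := Subgroup.mem_zpowers_iff.mp hn
  have hti : t⁻¹ = t := inv_eq_of_mul_eq_one_left ht
  have h1 : t * (t * f * t⁻¹) * t⁻¹ = f := by
    rw [hti]
    calc t * (t * f * t) * t = (t * t) * f * (t * t) := by group
      _ = f := by rw [ht, one_mul, mul_one]
  have h2 : t * (f ^ k) * t⁻¹ = (t * f * t⁻¹) ^ k := by
    rw [conj_zpow]
  have h3 : f ^ (k * k) = f := by
    calc f ^ (k * k) = (f ^ k) ^ k := zpow_mul f k k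
      _ = (t * f * t⁻¹) ^ k := by rw [hk]
      _ = t * f ^ k * t⁻¹ := h2.symm
      _ = t * (t * f * t⁻¹) * t⁻¹ := by rw [hk]
      _ = f := h1
  have h4 : f ^ (k * k - 1) = 1 := by
    rw [zpow_sub, h3, zpow_one, mul_inv_cancel]
  have h5 : ((orderOf f : ℕ) : ℤ) ∣ k * k - 1 := orderOf_dvd_iff_zpow_eq_one.mpr h4
  rw [hf] at h5
  have hmod : (k * k) % 5 = 1 := by
    have : (5 : ℤ) ∣ k * k - 1 := by exact_mod_cast h5
    omega
  have hr : k % 5 = 1 ∨ k % 5 = 4 := by
    rw [Int.mul_emod] at hmod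
    have h0 := Int.emod_nonneg k (by norm_num : (5 : ℤ) ≠ 0)
    have h6 := Int.emod_lt_of_pos k (by norm_num : (0 : ℤ) < 5)
    have key : ∀ r : ℤ, 0 ≤ r → r < 5 → (r * r) % 5 = 1 → r = 1 ∨ r = 4 := by
      intro r hr0 hr5 hr
      interval_cases r <;> omega
    exact key _ h0 h6 hmod
  have hkmod : f ^ (k % 5) = f ^ k := by
    have := zpow_mod_orderOf f k
    rw [hf] at this
    exact_mod_cast this
  rcases hr with h | h
  · exfalso
    apply hc
    rw [← hk, ← hkmod, h, zpow_one]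
  · rw [← hk, ← hkmod, h]
    have h5' : f ^ (5 : ℤ) = 1 := by
      have := pow_orderOf_eq_one f
      rw [hf] at this
      exact_mod_cast this
    have : f ^ (4 : ℤ) * f = 1 := by
      rw [← zpow_add_one]
      exact h5'
    exact eq_inv_of_mul_eq_one_left this

set_option maxHeartbeats 1600000 in
/-- **Package [FU]** -/
theorem pkgFU : PkgFU.{u} := by
  intro G _ _ hS hG K hK
  classical
  have : Fact (Nat.Prime 5) := ⟨by norm_num⟩
  have : Fact (Nat.Prime 2) := ⟨by norm_num⟩
  obtain ⟨f', hf'⟩ := exists_prime_orderOf_dvd_card' (G := K) 5 (by rw [hK]; norm_num)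
  obtain ⟨f, hfdef⟩ : ∃ f : G, f = (f' : G) := ⟨_, rfl⟩
  have hf : orderOf f = 5 := by rw [hfdef, Subgroup.orderOf_coe]; exact hf'
  have hfK : f ∈ K := by rw [hfdef]; exact f'.2
  have hcardF : Nat.card (Subgroup.zpowers f) = 5 := by rw [Nat.card_zpowers, hf]
  have hpg : IsPGroup 5 (Subgroup.zpowers f) :=
    IsPGroup.of_card (n := 1) (by rw [hcardF, pow_one])
  obtain ⟨P, hle⟩ := hpg.exists_le_sylow
  obtain ⟨hP, hN20, hCP, -⟩ := sylow5_full hG P
  have hPF : (P : Subgroup G) = Subgroup.zpowers f :=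
    (Subgroup.eq_of_le_of_card_ge hle (by rw [hcardF, hP])).symm
  rw [hPF] at hN20 hCP
  obtain ⟨N, hNdef⟩ : ∃ N : Subgroup G,
      N = Subgroup.normalizer (Subgroup.zpowers f : Set G) := ⟨_, rfl⟩
  rw [← hNdef] at hN20
  have hFN : Subgroup.zpowers f ≤ N := by rw [hNdef]; exact Subgroup.le_normalizer
  have hFK : Subgroup.zpowers f ≤ K := by rw [Subgroup.zpowers_le]; exact hfK
  -- the normalizer in `K`
  have hm : Nat.card ↥(N ⊓ K) = 10 := by
    obtain ⟨PK, hPK⟩ := sylow_of_order5 hK f' hf'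
    have h1 := Sylow.card_eq_index_normalizer PK
    have h2 := card_sylow_modEq_one 5 K
    have h3 : Subgroup.zpowers f' = (Subgroup.zpowers f).subgroupOf K := by
      have h4 : (Subgroup.zpowers f').map K.subtype = Subgroup.zpowers f := by
        rw [MonoidHom.map_zpowers, hfdef]
        rfl
      change Subgroup.zpowers f' = (Subgroup.zpowers f).comap K.subtype
      rw [← h4, Subgroup.comap_map_eq_self_of_injective (Subgroup.subtype_injective _)]
    have h1' : Nat.card (Sylow 5 K) =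
        (Subgroup.normalizer ((Subgroup.zpowers f' : Subgroup K) : Set K)).index := by
      rw [← hPK]; exact h1
    rw [h3, ← Subgroup.subgroupOf_normalizer_eq hFK, ← hNdef] at h1'
    clear h1
    have h1 := h1'
    have h5 := Subgroup.card_mul_index (N.subgroupOf K)
    rw [hK, ← h1] at h5
    have h6 : Nat.card (N.subgroupOf K) = Nat.card ↥(N ⊓ K) := by
      rw [← Subgroup.inf_subgroupOf_right]
      exact Nat.card_congr (Subgroup.subgroupOfEquivOfLe inf_le_right).toEquiv
    rw [h6] at h5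
    have h7 : Nat.card ↥(N ⊓ K) ∣ 20 := hN20 ▸ Subgroup.card_dvd_of_le inf_le_left
    have h8 : 5 ∣ Nat.card ↥(N ⊓ K) := hcardF ▸ Subgroup.card_dvd_of_le (le_inf hFN hFK)
    have h9 : Nat.card ↥(N ⊓ K) ≤ 20 := Nat.le_of_dvd (by norm_num) h7
    unfold Nat.ModEq at h2
    generalize Nat.card (Sylow 5 K) = n at *
    generalize Nat.card ↥(N ⊓ K) = m at *
    interval_cases m <;> omega
  -- involutions of `N` invert `f`
  have hinv : ∀ t : G, t ∈ N → t ≠ 1 → t * t = 1 → t * f * t⁻¹ = f⁻¹ := by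
    intro t htN ht1 ht2
    have hn : t * f * t⁻¹ ∈ Subgroup.zpowers f := by
      rw [hNdef, Subgroup.mem_normalizer_iff] at htN
      exact (htN f).mp (Subgroup.mem_zpowers f)
    apply inv_of_sq f t hf ht2 hn
    intro hc
    apply ht1
    have hcomm : t * f = f * t := by
      calc t * f = (t * f * t⁻¹) * t := by group
        _ = f * t := by rw [hc]
    have htC : t ∈ Subgroup.centralizer (Subgroup.zpowers f : Set G) := by
      rw [Subgroup.mem_centralizer_iff]
      intro h hh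
      obtain ⟨k, rfl⟩ := Subgroup.mem_zpowers_iff.mp hh
      exact ((Commute.zpow_right (show Commute t f from hcomm) k).eq).symm
    rw [hCP] at htC
    have h1 : orderOf t ∣ 5 := by
      have := orderOf_dvd_natCard (⟨t, htC⟩ : Subgroup.zpowers f)
      rw [hcardF, ← Subgroup.orderOf_coe] at this
      exact this
    have h2 : orderOf t ∣ 2 := orderOf_dvd_of_pow_eq_one (by rw [pow_two]; exact ht2)
    have h3 : orderOf t = 1 := by
      have := Nat.dvd_gcd h1 h2
      simpa using this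
    exact orderOf_eq_one_iff.mp h3
  -- an element of order `4`
  have hex : ∃ u : G, u ∈ N ∧ orderOf u = 4 := by
    by_contra hno
    obtain ⟨S, hS4⟩ := Sylow.exists_subgroup_card_pow_prime (G := N) 2 (n := 2)
      (by rw [hN20]; norm_num)
    have hS4' : Nat.card S = 4 := by rw [hS4]; norm_num
    have hsq : ∀ x : S, (((x : N) : G)) * ((x : N) : G) = 1 := by
      intro x
      have h1 : orderOf (((x : N) : G)) ∣ 4 := by
        rw [Subgroup.orderOf_coe, Subgroup.orderOf_coe, ← hS4']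
        exact orderOf_dvd_natCard x
      have h2 : orderOf (((x : N) : G)) ≠ 4 := fun h => hno ⟨_, (x : N).2, h⟩
      have h3 : orderOf (((x : N) : G)) ∣ 2 := by
        have h4 : orderOf (((x : N) : G)) ≤ 4 := Nat.le_of_dvd (by norm_num) h1
        generalize orderOf (((x : N) : G)) = o at *
        interval_cases o <;> simp_all
      have := orderOf_dvd_iff_pow_eq_one.mp h3
      rw [pow_two] at this
      exact this
    have : Fintype S := Fintype.ofFinite _
    have hcard3 : 2 < Fintype.card S := by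
      rw [← Nat.card_eq_fintype_card, hS4']; norm_num
    obtain ⟨a, b, c, hab, hac, hbc⟩ := Fintype.two_lt_card_iff.mp hcard3
    obtain ⟨s₁, s₂, h1, h2, h12⟩ : ∃ s₁ s₂ : S, s₁ ≠ 1 ∧ s₂ ≠ 1 ∧ s₁ ≠ s₂ := by
      by_cases ha : a = 1
      · exact ⟨b, c, fun h => hab (ha.trans h.symm), fun h => hac (ha.trans h.symm), hbc⟩
      · by_cases hb : b = 1
        · exact ⟨a, c, ha, fun h => hbc (hb.trans h.symm), hac⟩
        · exact ⟨a, b, ha, hb, hab⟩
    have hcoe : ∀ x : S, x ≠ 1 → (((x : N) : G)) ≠ 1 := by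
      intro x hx h
      apply hx
      apply Subtype.ext
      apply Subtype.ext
      exact h
    have e1 := hinv _ (s₁ : N).2 (hcoe s₁ h1) (hsq s₁)
    have e2 := hinv _ (s₂ : N).2 (hcoe s₂ h2) (hsq s₂)
    have h12' : s₁ * s₂ ≠ 1 := by
      intro h
      apply h12
      have h3 : s₁ * s₁ = 1 := by
        apply Subtype.ext
        apply Subtype.ext
        exact hsq s₁
      have : s₁ * s₂ = s₁ * s₁ := by rw [h, h3]
      exact (mul_left_cancel this).symm
    have e3 := hinv _ ((s₁ * s₂ : S) : N).2 (hcoe _ h12') (hsq _)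
    have e3' : (((s₁ : N) : G)) * ((s₂ : N) : G) * f * ((((s₁ : N) : G)) * ((s₂ : N) : G))⁻¹ =
        f⁻¹ := e3
    have e4 : (((s₁ : N) : G)) * ((s₂ : N) : G) * f * ((((s₁ : N) : G)) * ((s₂ : N) : G))⁻¹ =
        f := by
      calc (((s₁ : N) : G)) * ((s₂ : N) : G) * f * ((((s₁ : N) : G)) * ((s₂ : N) : G))⁻¹
          = ((s₁ : N) : G) * (((s₂ : N) : G) * f * (((s₂ : N) : G))⁻¹) * (((s₁ : N) : G))⁻¹ := by
            group
        _ = ((s₁ : N) : G) * f⁻¹ * (((s₁ : N) : G))⁻¹ := by rw [e2]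
        _ = (((s₁ : N) : G) * f * (((s₁ : N) : G))⁻¹)⁻¹ := by group
        _ = f := by rw [e1, inv_inv]
    rw [e4] at e3'
    have h5 : f * f = 1 := by
      nth_rewrite 1 [e3']
      exact inv_mul_cancel f
    have h6 : orderOf f ∣ 2 := orderOf_dvd_of_pow_eq_one (by rw [pow_two]; exact h5)
    rw [hf] at h6
    norm_num at h6
  obtain ⟨u, huN, hu⟩ := hex
  refine ⟨f, u, hf, hfK, hu, ?_, ?_, ?_⟩
  · rw [hNdef, Subgroup.mem_normalizer_iff] at huN
    exact (huN f).mp (Subgroup.mem_zpowers f)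
  · intro huK
    have h1 : orderOf u ∣ 10 := by
      have := orderOf_dvd_natCard (⟨u, ⟨huN, huK⟩⟩ : ↥(N ⊓ K))
      rw [hm, ← Subgroup.orderOf_coe] at this
      exact this
    rw [hu] at h1
    norm_num at h1
  · have h5 := Subgroup.card_mul_index (K.subgroupOf N)
    have h6 : Nat.card (K.subgroupOf N) = Nat.card ↥(N ⊓ K) := by
      rw [← Subgroup.inf_subgroupOf_left]
      exact Nat.card_congr (Subgroup.subgroupOfEquivOfLe inf_le_left).toEquiv
    rw [h6, hm, hN20] at h5
    have h7 : (K.subgroupOf N).index = 2 := by omega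
    have h8 := Subgroup.mul_self_mem_of_index_two h7 (⟨u, huN⟩ : N)
    rw [Subgroup.mem_subgroupOf] at h8
    exact h8

end Cfsg.Agent.Lib.Helper93.M11U
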