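import Mathlib
import Cfsg.Agent.Lib.Helper93.M11U.Defs
import Cfsg.Agent.Lib.Helper12.PermChar
import Cfsg.Agent.Lib.Helper79.ClassMult
import Cfsg.Agent.Lib.Helper81.CharCore

set_option autoImplicit false

/-!
# S0420, package [PERM2]: a permutation character of the form `1 + χ`
-/

namespace Cfsg.Agent.Lib.Helper93.M11U

open scoped ComplexConjugate

universe u

/-- a sum over a subgroup equal to `K`, as a `finsum` over `K` -/
theorem sum_stab_eq {G : Type u} [Group G] (S K : Subgroup G) (h : S = K) [Fintype S]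
    (F : G → ℂ) :
    (Nat.card S : ℂ)⁻¹ * ∑ x : S, F x = (Nat.card K : ℂ)⁻¹ * ∑ᶠ x : K, F x := by
  subst h
  rw [finsum_eq_sum_of_fintype]

set_option maxHeartbeats 800000 in
/-- **Package [PERM2]** -/
theorem pkgPerm2 : PkgPerm2.{u} := by
  intro G _ _ K χ hχ hχ1 hdeg hsum
  classical
  let _ : Fintype G := Fintype.ofFinite G
  have : Finite (Cfsg.IrrCharacter G) := Cfsg.Agent.Lib.Helper81.irr_finite G
  let _ : Fintype (Cfsg.IrrCharacter G) := Fintype.ofFinite _
  let _ : Fintype (G ⧸ K) := Fintype.ofFinite _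
  let _ : Fintype K := Fintype.ofFinite _
  obtain ⟨a, ha⟩ : ∃ a : G ⧸ K, a = ((1 : G) : G ⧸ K) := ⟨_, rfl⟩
  obtain ⟨m, hm, hm1, -, hmdeg⟩ :=
    Cfsg.Agent.Lib.Helper12.PermChar.exists_mult (G := G) (Ω := G ⧸ K) a
  obtain ⟨d, hddef⟩ : ∃ d : Cfsg.IrrCharacter G → ℕ,
      d = fun ψ : Cfsg.IrrCharacter G => Cfsg.charDegree (ψ : G → ℂ) := ⟨_, rfl⟩
  have hd : ∀ ψ : Cfsg.IrrCharacter G, (ψ : G → ℂ) 1 = d ψ := fun ψ => by
    rw [hddef]; exact (Cfsg.Agent.Lib.Helper79.irr_charDegree ψ.2).1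
  have hdpos : ∀ ψ, 0 < d ψ := fun ψ => by
    rw [hddef]; exact (Cfsg.Agent.Lib.Helper79.irr_charDegree ψ.2).2.1
  have htot := hmdeg d hd
  have hcardΩ : Fintype.card (G ⧸ K) = K.index := by
    rw [← Nat.card_eq_fintype_card]; rfl
  rw [hcardΩ] at htot
  obtain ⟨χ', hχ'⟩ : ∃ χ' : Cfsg.IrrCharacter G, χ' = ⟨χ, hχ⟩ := ⟨_, rfl⟩
  have hχ'c : (χ' : G → ℂ) = χ := by rw [hχ']
  obtain ⟨one', hone'⟩ : ∃ o : Cfsg.IrrCharacter G, o = Cfsg.Agent.Lib.Helper74.irrOne G :=
    ⟨_, rfl⟩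
  have hone'c : ∀ g, (one' : G → ℂ) g = 1 := fun g => by rw [hone']; rfl
  rw [← hone'] at hm1
  have hne : χ' ≠ one' := by
    intro h
    apply hχ1
    rw [← hχ'c, h]
    exact hone'c 1
  have hdχ : d χ' + 1 = K.index := by
    have h1 := hd χ'
    rw [hχ'c] at h1
    have : ((d χ' + 1 : ℕ) : ℂ) = (K.index : ℂ) := by
      push_cast
      rw [← h1]
      exact hdeg
    exact_mod_cast this
  have hdone : d one' = 1 := by
    have h1 := hd one'
    rw [hone'c 1] at h1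
    exact_mod_cast h1.symm
  have hstab : MulAction.stabilizer G a = K := by
    rw [ha]; exact MulAction.stabilizer_quotient K
  have hcf : Cfsg.IsClassFunction G χ :=
    Cfsg.Agent.Lib.Helper3.isClassFunction_of_isCharacter
      (Cfsg.Agent.Lib.Helper3.isCharacter_of_irr hχ)
  have hKne : (Nat.card K : ℂ) ≠ 0 := by
    exact_mod_cast Nat.card_pos.ne'
  have hmχ : (m χ' : ℂ) = (Nat.card K : ℂ)⁻¹ * conj (sumOn χ K) := by
    rw [← hm χ', hχ'c]
    let _ : Fintype (MulAction.stabilizer G a) := Fintype.ofFinite _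
    rw [Cfsg.Agent.Lib.Helper12.Subdeg.classInner_permChar a hcf]
    rw [sum_stab_eq (MulAction.stabilizer G a) K hstab (fun x => conj (χ x))]
    congr 1
    unfold sumOn
    rw [finsum_eq_sum_of_fintype, finsum_eq_sum_of_fintype, map_sum]
  have hmχ0 : m χ' ≠ 0 := by
    intro h
    rw [h, Nat.cast_zero] at hmχ
    have h2 : conj (sumOn χ K) = 0 := by
      rcases mul_eq_zero.mp hmχ.symm with h3 | h3
      · exact absurd (inv_eq_zero.mp h3) hKne
      · exact h3
    exact hsum ((map_eq_zero _).mp h2)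
  -- split the sum of the degrees
  have h1 : ∑ ψ : Cfsg.IrrCharacter G, m ψ * d ψ =
      m one' * d one' + (m χ' * d χ' +
        ∑ ψ ∈ (Finset.univ.erase one').erase χ', m ψ * d ψ) := by
    rw [← Finset.add_sum_erase Finset.univ _ (Finset.mem_univ one'),
      ← Finset.add_sum_erase (Finset.univ.erase one') _
        (Finset.mem_erase.mpr ⟨hne, Finset.mem_univ _⟩)]
  rw [h1, hm1, hdone] at htot
  have h2 : d χ' ≤ m χ' * d χ' := Nat.le_mul_of_pos_left _ (Nat.pos_of_ne_zero hmχ0)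
  have hR : ∑ ψ ∈ (Finset.univ.erase one').erase χ', m ψ * d ψ = 0 := by omega
  have hmχ1 : m χ' = 1 := by
    have h3 : m χ' * d χ' = 1 * d χ' := by omega
    exact Nat.eq_of_mul_eq_mul_right (hdpos χ') h3
  have hrest : ∀ ψ : Cfsg.IrrCharacter G, ψ ≠ one' → ψ ≠ χ' → m ψ = 0 := by
    intro ψ h1' h2'
    have h3 := (Finset.sum_eq_zero_iff.mp hR) ψ
      (Finset.mem_erase.mpr ⟨h2', Finset.mem_erase.mpr ⟨h1', Finset.mem_univ _⟩⟩)
    rcases Nat.mul_eq_zero.mp h3 with h4 | h4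
    · exact h4
    · exact absurd h4 (hdpos ψ).ne'
  constructor
  · intro g
    have hπ : (fixCount K g : ℂ) = Cfsg.Agent.Lib.Helper12.Subdeg.permChar G (G ⧸ K) g := rfl
    rw [hπ, Cfsg.Agent.Lib.Helper80.classFun_expansion_apply _
      Cfsg.Agent.Lib.Helper12.PermChar.isClassFunction_permChar g]
    rw [Finset.sum_eq_add one' χ' hne.symm]
    · rw [hm one', hm χ', hm1, hmχ1, hone'c g, hχ'c]
      norm_num
    · intro ψ _ hψ
      rw [hm ψ, hrest ψ hψ.1 hψ.2]
      simp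
    · intro h; exact absurd (Finset.mem_univ _) h
    · intro h; exact absurd (Finset.mem_univ _) h
  · rw [hmχ1, Nat.cast_one] at hmχ
    have h3 : conj (sumOn χ K) = (Nat.card K : ℂ) := by
      field_simp at hmχ
      exact hmχ.symm
    have h4 := congrArg conj h3
    rw [Complex.conj_conj, Complex.conj_natCast] at h4
    exact h4

end Cfsg.Agent.Lib.Helper93.M11U
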