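import Mathlib
import Cfsg.Agent.Lib.Helper93.M11U.Defs
import Cfsg.Agent.Lib.Helper80.Orthogonality
import Cfsg.Agent.Lib.Helper81.CharCore

set_option autoImplicit false

/-!
# S0420, package [REGSUM]: the regular character summed over a subgroup
-/

namespace Cfsg.Agent.Lib.Helper93.M11U

open scoped ComplexConjugate

universe u

/-- a sum over `Fin 10` written out -/
theorem sum_ten {M : Type*} [AddCommMonoid M] (F : Fin 10 → M) :
    ∑ m, F m = F 0 + F 1 + F 2 + F 3 + F 4 + F 5 + F 6 + F 7 + F 8 + F 9 := by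
  simp only [Fin.sum_univ_succ, Fin.sum_univ_zero, add_zero]
  simp only [← add_assoc]
  rfl

open Classical in
set_option maxHeartbeats 800000 in
/-- the regular character -/
theorem reg_apply {G : Type u} [Group G] [Finite G] (T : Tab G) (h : G) :
    (T.χ₁ : G → ℂ) h + 55 * (T.ψ : G → ℂ) h + 45 * (T.χ45 : G → ℂ) h +
      10 * (T.χa : G → ℂ) h + 10 * (T.χb : G → ℂ) h + 10 * (T.χc : G → ℂ) h +
      16 * (T.η₁ : G → ℂ) h + 16 * (T.η₂ : G → ℂ) h + 11 * (T.θ₁ : G → ℂ) h +
      44 * (T.θ₂ : G → ℂ) h = if h = 1 then (Nat.card G : ℂ) else 0 := by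
  classical
  have : Fintype G := Fintype.ofFinite G
  have : Finite (Cfsg.IrrCharacter G) := Cfsg.Agent.Lib.Helper81.irr_finite G
  have : Fintype (Cfsg.IrrCharacter G) := Fintype.ofFinite _
  have hcol := Cfsg.Agent.Lib.Helper80.second_orthogonality_aux (G := G) h 1
  rw [← T.bij.sum_comp, sum_ten] at hcol
  obtain ⟨d1, d2, d3, d4, d5, d6, d7, d8, d9⟩ := T.deg
  have hcol' : (T.ψ : G → ℂ) h * conj ((T.ψ : G → ℂ) 1) +
      (T.χ₁ : G → ℂ) h * conj ((T.χ₁ : G → ℂ) 1) +
      (T.χ45 : G → ℂ) h * conj ((T.χ45 : G → ℂ) 1) +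
      (T.χa : G → ℂ) h * conj ((T.χa : G → ℂ) 1) +
      (T.χb : G → ℂ) h * conj ((T.χb : G → ℂ) 1) +
      (T.χc : G → ℂ) h * conj ((T.χc : G → ℂ) 1) +
      (T.η₁ : G → ℂ) h * conj ((T.η₁ : G → ℂ) 1) +
      (T.η₂ : G → ℂ) h * conj ((T.η₂ : G → ℂ) 1) +
      (T.θ₁ : G → ℂ) h * conj ((T.θ₁ : G → ℂ) 1) +
      (T.θ₂ : G → ℂ) h * conj ((T.θ₂ : G → ℂ) 1) =
      if IsConj h 1 then (Nat.card (Subgroup.centralizer ({h} : Set G)) : ℂ) else 0 := hcol
  rw [d1, d2, d3, d4, d5, d6, d7, d8, d9, T.one 1] at hcol'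
  simp only [map_ofNat, map_one] at hcol'
  by_cases hh : h = 1
  · rw [if_pos hh]
    rw [if_pos (by rw [hh])] at hcol'
    have hc : Subgroup.centralizer ({h} : Set G) = ⊤ := by
      rw [hh, eq_top_iff]
      intro c _
      rw [Subgroup.mem_centralizer_iff]
      intro w hw
      rw [Set.mem_singleton_iff] at hw
      rw [hw, one_mul, mul_one]
    rw [hc, Subgroup.card_top] at hcol'
    linear_combination hcol'
  · rw [if_neg hh]
    rw [if_neg (fun hc => hh (isConj_one_left.mp hc))] at hcol'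
    linear_combination hcol'

set_option maxHeartbeats 800000 in
/-- **Package [REGSUM]** -/
theorem pkgRegSum : PkgRegSum.{u} := by
  intro G _ _ T H
  classical
  have : Fintype H := Fintype.ofFinite _
  unfold sumOn
  simp only [finsum_eq_sum_of_fintype]
  simp only [Finset.mul_sum]
  simp only [← Finset.sum_add_distrib]
  simp only [reg_apply]
  rw [Finset.sum_eq_single (1 : H)]
  · rw [if_pos (Subgroup.coe_one H)]
  · intro b _ hb
    rw [if_neg]
    intro h
    exact hb (Subtype.ext h)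
  · intro h
    exact absurd (Finset.mem_univ _) h

end Cfsg.Agent.Lib.Helper93.M11U
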