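import Mathlib
import Cfsg.Agent.Lib.Helper93.M11U.Defs
import Cfsg.Agent.Lib.Helper93.M11Three
import Cfsg.Agent.Lib.Helper91.M11Inv2

set_option autoImplicit false

/-!
# S0420, package [TAB]: the character table of a simple group of order `7920` at the elements
of orders `1, 2, 3, 5`
-/

namespace Cfsg.Agent.Lib.Helper93.M11U

open Cfsg Cfsg.Agent.Lib.Helper91.M11 Cfsg.Agent.Lib.Helper91.SS Cfsg.Agent.Lib.Helper93.M11

universe u

variable {G : Type u} [Group G] [Finite G]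

omit [Group G] [Finite G] in
/-- an injective family of four elements of a four-element family exhausts it -/
theorem surj_four {α : Type*} (w c : Fin 4 → α) (hc : Function.Injective c)
    (h : ∀ l, ∃ k, c l = w k) : ∀ k, ∃ l, c l = w k := by
  choose κ hκ using h
  have hinj : Function.Injective κ := by
    intro l l' hll
    apply hc
    rw [hκ l, hκ l', hll]
  have hsurj := Finite.injective_iff_surjective.mp hinj
  intro k
  obtain ⟨l, hl⟩ := hsurj k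
  exact ⟨l, by rw [hκ l, hl]⟩

set_option maxHeartbeats 1600000 in
/-- The values of the ten irreducible characters at an element of order `5`. -/
theorem five_values [IsSimpleGroup G] (hG : Nat.card G = 7920)
    (ψ χ₁ χ45 χa χb χc η₁ η₂ θ₁ θ₂ : IrrCharacter G)
    (hbij : Function.Bijective
      (![ψ, χ₁, χ45, χa, χb, χc, η₁, η₂, θ₁, θ₂] : Fin 10 → IrrCharacter G))
    (hdψ : Cfsg.charDegree (ψ : G → ℂ) = 55) (hχ₁ : ∀ g, (χ₁ : G → ℂ) g = 1)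
    (hd45 : Cfsg.charDegree (χ45 : G → ℂ) = 45) (hda : Cfsg.charDegree (χa : G → ℂ) = 10)
    (hdb : Cfsg.charDegree (χb : G → ℂ) = 10) (hdc : Cfsg.charDegree (χc : G → ℂ) = 10)
    (hdη₁ : Cfsg.charDegree (η₁ : G → ℂ) = 16) (hdη₂ : Cfsg.charDegree (η₂ : G → ℂ) = 16)
    (hdθ₁ : Cfsg.charDegree (θ₁ : G → ℂ) = 11) (hdθ₂ : Cfsg.charDegree (θ₂ : G → ℂ) = 44)
    (z : G) (hz : orderOf z = 5) :
    (ψ : G → ℂ) z = 0 ∧ (χ45 : G → ℂ) z = 0 ∧ (χa : G → ℂ) z = 0 ∧ (χb : G → ℂ) z = 0 ∧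
    (χc : G → ℂ) z = 0 ∧ (η₁ : G → ℂ) z = 1 ∧ (η₂ : G → ℂ) z = 1 ∧ (θ₁ : G → ℂ) z = 1 ∧
    (θ₂ : G → ℂ) z = -1 := by
  classical
  have : Fact (Nat.Prime 5) := ⟨by norm_num⟩
  have hGn : ¬ (Nat.card G).Prime := by rw [hG]; norm_num
  have hz1 : z ≠ 1 := by
    rintro rfl
    rw [orderOf_one] at hz
    norm_num at hz
  have hpg : IsPGroup 5 (Subgroup.zpowers z) := by
    apply IsPGroup.of_card (n := 1)
    rw [Nat.card_zpowers, hz, pow_one]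
  obtain ⟨P, hPz⟩ := hpg.exists_le_sylow
  have hzP : z ∈ (P : Subgroup G) := hPz (Subgroup.mem_zpowers z)
  obtain ⟨hP, hN20, hCP, hm⟩ := sylow5_full hG P
  obtain ⟨χ5, a5, hinj5, hχ5, -, -⟩ := block_m4_five hGn P hP hm
  have hval : ∀ l, (χ5 l : G → ℂ) z = (a5 l : ℂ) := fun l =>
    (hχ5 l).2.2 z z (isPPart_self (by norm_num) _ hP z hzP hz1) hzP hz1
  have hmod : ∀ l, ((Cfsg.charDegree (χ5 l : G → ℂ) : ℕ) : ℤ) % 5 = a5 l % 5 := by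
    intro l
    have hmod := Cfsg.Agent.Lib.Helper90.BrauerDeg.degree_modEq (χ5 l).2 5 (P : Subgroup G) hP
      (a5 l) (fun y hy hy1 => (hχ5 l).2.2 y y (isPPart_self (by norm_num) _ hP y hy hy1) hy hy1)
    exact hmod
  obtain ⟨X, hX⟩ : ∃ X : Fin 10 → IrrCharacter G,
      X = ![ψ, χ₁, χ45, χa, χb, χc, η₁, η₂, θ₁, θ₂] := ⟨_, rfl⟩
  rw [← hX] at hbij
  have e0 : X 0 = ψ := by rw [hX]; rfl
  have e1 : X 1 = χ₁ := by rw [hX]; rfl
  have e2 : X 2 = χ45 := by rw [hX]; rfl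
  have e3 : X 3 = χa := by rw [hX]; rfl
  have e4 : X 4 = χb := by rw [hX]; rfl
  have e5 : X 5 = χc := by rw [hX]; rfl
  have e6 : X 6 = η₁ := by rw [hX]; rfl
  have e7 : X 7 = η₂ := by rw [hX]; rfl
  have e8 : X 8 = θ₁ := by rw [hX]; rfl
  have e9 : X 9 = θ₂ := by rw [hX]; rfl
  obtain ⟨w, hw⟩ : ∃ w : Fin 4 → Fin 10, w = ![6, 7, 8, 9] := ⟨_, rfl⟩
  obtain ⟨s, hs⟩ : ∃ s : Fin 4 → ℤ, s = ![1, 1, 1, -1] := ⟨_, rfl⟩
  have hcls : ∀ l, ∃ k, χ5 l = X (w k) ∧ a5 l = s k := by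
    intro l
    obtain ⟨j, hj⟩ := hbij.surjective (χ5 l)
    have ha := (hχ5 l).1
    have h1 := (hχ5 l).2.1
    have hml := hmod l
    rw [← hj] at hml h1
    fin_cases j
    · exfalso
      change ((Cfsg.charDegree (X 0 : G → ℂ) : ℕ) : ℤ) % 5 = a5 l % 5 at hml
      rw [e0, hdψ] at hml
      rcases ha with h | h <;> rw [h] at hml <;> omega
    · exfalso
      apply h1
      change (X 1 : G → ℂ) 1 = 1
      rw [e1]
      exact hχ₁ 1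
    · exfalso
      change ((Cfsg.charDegree (X 2 : G → ℂ) : ℕ) : ℤ) % 5 = a5 l % 5 at hml
      rw [e2, hd45] at hml
      rcases ha with h | h <;> rw [h] at hml <;> omega
    · exfalso
      change ((Cfsg.charDegree (X 3 : G → ℂ) : ℕ) : ℤ) % 5 = a5 l % 5 at hml
      rw [e3, hda] at hml
      rcases ha with h | h <;> rw [h] at hml <;> omega
    · exfalso
      change ((Cfsg.charDegree (X 4 : G → ℂ) : ℕ) : ℤ) % 5 = a5 l % 5 at hml
      rw [e4, hdb] at hml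
      rcases ha with h | h <;> rw [h] at hml <;> omega
    · exfalso
      change ((Cfsg.charDegree (X 5 : G → ℂ) : ℕ) : ℤ) % 5 = a5 l % 5 at hml
      rw [e5, hdc] at hml
      rcases ha with h | h <;> rw [h] at hml <;> omega
    · refine ⟨0, by rw [← hj, hw]; rfl, ?_⟩
      change ((Cfsg.charDegree (X 6 : G → ℂ) : ℕ) : ℤ) % 5 = a5 l % 5 at hml
      rw [e6, hdη₁] at hml
      rw [hs]
      change a5 l = 1
      rcases ha with h | h <;> rw [h] at hml ⊢ <;> omega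
    · refine ⟨1, by rw [← hj, hw]; rfl, ?_⟩
      change ((Cfsg.charDegree (X 7 : G → ℂ) : ℕ) : ℤ) % 5 = a5 l % 5 at hml
      rw [e7, hdη₂] at hml
      rw [hs]
      change a5 l = 1
      rcases ha with h | h <;> rw [h] at hml ⊢ <;> omega
    · refine ⟨2, by rw [← hj, hw]; rfl, ?_⟩
      change ((Cfsg.charDegree (X 8 : G → ℂ) : ℕ) : ℤ) % 5 = a5 l % 5 at hml
      rw [e8, hdθ₁] at hml
      rw [hs]
      change a5 l = 1
      rcases ha with h | h <;> rw [h] at hml ⊢ <;> omega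
    · refine ⟨3, by rw [← hj, hw]; rfl, ?_⟩
      change ((Cfsg.charDegree (X 9 : G → ℂ) : ℕ) : ℤ) % 5 = a5 l % 5 at hml
      rw [e9, hdθ₂] at hml
      rw [hs]
      change a5 l = -1
      rcases ha with h | h <;> rw [h] at hml ⊢ <;> omega
  have hwinj : Function.Injective w := by rw [hw]; decide
  have hsurj := surj_four (fun k => X (w k)) χ5 hinj5 (fun l => by
    obtain ⟨k, hk, -⟩ := hcls l
    exact ⟨k, hk⟩)
  have hvalw : ∀ k, (X (w k) : G → ℂ) z = (s k : ℂ) := by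
    intro k
    obtain ⟨l, hl⟩ := hsurj k
    obtain ⟨k', hk', hs'⟩ := hcls l
    have hkk : k' = k := by
      apply hwinj
      apply hbij.injective
      rw [← hk']
      exact hl
    rw [← hl, hval l, hs', hkk]
  have hC5 : Nat.card (Subgroup.centralizer ({z} : Set G)) = 5 := by
    rw [centralizer_singleton_eq (by norm_num) (P : Subgroup G) hP z hzP hz1, hCP, hP]
  have hsum : 1 + ∑ i, a5 i ^ 2 = (Nat.card (Subgroup.centralizer ({z} : Set G)) : ℤ) := by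
    rw [hC5]
    simp only [Fin.sum_univ_four]
    have hsq : ∀ l, a5 l ^ 2 = 1 := by
      intro l
      rcases (hχ5 l).1 with h | h <;> rw [h] <;> norm_num
    rw [hsq 0, hsq 1, hsq 2, hsq 3]
    norm_num
  have hzero : ∀ j : Fin 10, (X j : G → ℂ) 1 ≠ 1 → (∀ k, j ≠ w k) → (X j : G → ℂ) z = 0 := by
    intro j hj1 hjw
    apply eq_zero_of_sum_sq_eq 4 χ5 hinj5 (fun l => (hχ5 l).2.1) z a5 hval hsum (X j) hj1
    intro l hl
    obtain ⟨k, hk, -⟩ := hcls l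
    rw [hk] at hl
    exact hjw k (hbij.injective hl)
  have hdeg1 : ∀ (χ : IrrCharacter G) (n : ℕ), Cfsg.charDegree (χ : G → ℂ) = n → n ≠ 1 →
      (χ : G → ℂ) 1 ≠ 1 := by
    intro χ n hn hn1 h
    have := (Cfsg.Agent.Lib.Helper79.irr_charDegree χ.2).1
    rw [hn, h] at this
    exact hn1 (by exact_mod_cast this.symm)
  have hne : ∀ j : Fin 10, j.val < 6 → ∀ k, j ≠ w k := by
    intro j hj k
    rw [hw]
    fin_cases k <;> intro h <;> rw [h] at hj <;> revert hj <;> decide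
  have z0 := hzero 0 (by rw [e0]; exact hdeg1 ψ 55 hdψ (by norm_num)) (hne 0 (by decide))
  have z2 := hzero 2 (by rw [e2]; exact hdeg1 χ45 45 hd45 (by norm_num)) (hne 2 (by decide))
  have z3 := hzero 3 (by rw [e3]; exact hdeg1 χa 10 hda (by norm_num)) (hne 3 (by decide))
  have z4 := hzero 4 (by rw [e4]; exact hdeg1 χb 10 hdb (by norm_num)) (hne 4 (by decide))
  have z5 := hzero 5 (by rw [e5]; exact hdeg1 χc 10 hdc (by norm_num)) (hne 5 (by decide))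
  have v6 := hvalw 0
  have v7 := hvalw 1
  have v8 := hvalw 2
  have v9 := hvalw 3
  rw [hw, hs] at v6 v7 v8 v9
  rw [e0] at z0
  rw [e2] at z2
  rw [e3] at z3
  rw [e4] at z4
  rw [e5] at z5
  change (X 6 : G → ℂ) z = ((1 : ℤ) : ℂ) at v6
  change (X 7 : G → ℂ) z = ((1 : ℤ) : ℂ) at v7
  change (X 8 : G → ℂ) z = ((1 : ℤ) : ℂ) at v8
  change (X 9 : G → ℂ) z = ((-1 : ℤ) : ℂ) at v9
  rw [e6] at v6
  rw [e7] at v7
  rw [e8] at v8
  rw [e9] at v9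
  refine ⟨z0, z2, z3, z4, z5, ?_, ?_, ?_, ?_⟩
  · rw [v6]; norm_num
  · rw [v7]; norm_num
  · rw [v8]; norm_num
  · rw [v9]; norm_num

/-- the table from the values at the involutions and at the elements of order `3` -/
theorem tab_of [IsSimpleGroup G] (hG : Nat.card G = 7920)
    (ψ χ₁ χ45 χa χb χc η₁ η₂ θ₁ θ₂ : IrrCharacter G)
    (hbij : Function.Bijective
      (![ψ, χ₁, χ45, χa, χb, χc, η₁, η₂, θ₁, θ₂] : Fin 10 → IrrCharacter G))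
    (hdψ : Cfsg.charDegree (ψ : G → ℂ) = 55) (hχ₁ : ∀ g, (χ₁ : G → ℂ) g = 1)
    (hd45 : Cfsg.charDegree (χ45 : G → ℂ) = 45) (hda : Cfsg.charDegree (χa : G → ℂ) = 10)
    (hdb : Cfsg.charDegree (χb : G → ℂ) = 10) (hdc : Cfsg.charDegree (χc : G → ℂ) = 10)
    (hdη₁ : Cfsg.charDegree (η₁ : G → ℂ) = 16) (hdη₂ : Cfsg.charDegree (η₂ : G → ℂ) = 16)
    (hdθ₁ : Cfsg.charDegree (θ₁ : G → ℂ) = 11) (hdθ₂ : Cfsg.charDegree (θ₂ : G → ℂ) = 44)
    (hv2 : ∀ t : G, orderOf t = 2 → (ψ : G → ℂ) t = -1 ∧ (χ45 : G → ℂ) t = -3 ∧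
      (χa : G → ℂ) t = 2 ∧ (χb : G → ℂ) t = -2 ∧ (χc : G → ℂ) t = -2 ∧ (η₁ : G → ℂ) t = 0 ∧
      (η₂ : G → ℂ) t = 0 ∧ (θ₁ : G → ℂ) t = 3 ∧ (θ₂ : G → ℂ) t = 4)
    (hv3 : ∀ x : G, orderOf x = 3 → (ψ : G → ℂ) x = 1 ∧ (χ45 : G → ℂ) x = 0 ∧
      (χa : G → ℂ) x = 1 ∧ (χb : G → ℂ) x = 1 ∧ (χc : G → ℂ) x = 1 ∧ (η₁ : G → ℂ) x = -2 ∧
      (η₂ : G → ℂ) x = -2 ∧ (θ₁ : G → ℂ) x = 2 ∧ (θ₂ : G → ℂ) x = -1) : Nonempty (Tab G) := by
  have hd : ∀ (χ : IrrCharacter G) (n : ℕ), Cfsg.charDegree (χ : G → ℂ) = n →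
      (χ : G → ℂ) 1 = (n : ℂ) := by
    intro χ n hn
    rw [(Cfsg.Agent.Lib.Helper79.irr_charDegree χ.2).1, hn]
  exact ⟨{ ψ := ψ, χ₁ := χ₁, χ45 := χ45, χa := χa, χb := χb, χc := χc, η₁ := η₁, η₂ := η₂,
           θ₁ := θ₁, θ₂ := θ₂, bij := hbij, one := hχ₁,
           deg := ⟨by rw [hd ψ 55 hdψ]; norm_num, by rw [hd χ45 45 hd45]; norm_num,
             by rw [hd χa 10 hda]; norm_num, by rw [hd χb 10 hdb]; norm_num,
             by rw [hd χc 10 hdc]; norm_num, by rw [hd η₁ 16 hdη₁]; norm_num,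
             by rw [hd η₂ 16 hdη₂]; norm_num, by rw [hd θ₁ 11 hdθ₁]; norm_num,
             by rw [hd θ₂ 44 hdθ₂]; norm_num⟩,
           v2 := hv2, v3 := hv3,
           v5 := fun z hz => five_values hG ψ χ₁ χ45 χa χb χc η₁ η₂ θ₁ θ₂ hbij hdψ hχ₁ hd45
             hda hdb hdc hdη₁ hdη₂ hdθ₁ hdθ₂ z hz }⟩

set_option maxHeartbeats 1600000 in
/-- **Package [TAB]** -/
theorem pkgTab : PkgTab.{u} := by
  intro G _ _ hS hG
  classical
  obtain ⟨ψ, χ₁, χ45, χa, χb, χc, η₁, η₂, θ₁, θ₂, hbij, hdψ, hχ₁, hd45, hda, hdb, hdc, hdη₁,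
    hdη₂, hdθ₁, hdθ₂, hR11a, hR11b, hRsq, hR5⟩ := table7920 hG
  have hinj7 := seven_injective _ hbij.injective
  have hΘ := theta_eleven hG χ₁ χ45 χa χb χc η₁ η₂ hinj7 hχ₁ hR11a hR11b
  have h3 := fun (x : G) (hx : orderOf x = 3) =>
    three_values_aux hG ψ χ₁ χ45 χa χb χc η₁ η₂ θ₁ θ₂ hbij hdψ hχ₁ hd45 hda hdb hdc hdη₁
      hdη₂ hdθ₁ hdθ₂ hR11a hR11b hR5 hΘ x hx (card_centralizer_sq_dvd hG x hx)
  have : Fact (Nat.Prime 2) := ⟨by norm_num⟩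
  obtain ⟨t₀, ht₀⟩ := exists_prime_orderOf_dvd_card' (G := G) 2 (by rw [hG]; norm_num)
  have hcl : ∀ (χ : IrrCharacter G) (t : G), orderOf t = 2 →
      (χ : G → ℂ) t = (χ : G → ℂ) t₀ := by
    intro χ t ht
    obtain ⟨c, hc⟩ := isConj_iff.mp (involutions_conj hG t₀ t ht₀ ht)
    rw [← hc]
    exact Cfsg.Agent.Lib.Helper3.isClassFunction_of_isCharacter
      (Cfsg.Agent.Lib.Helper3.isCharacter_of_irr χ.2) t₀ c
  obtain ⟨v1, v2, v3, v4, v5, v6, v7⟩ := involution_values_aux hG ψ χ₁ χ45 χa χb χc η₁ η₂ θ₁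
    θ₂ hbij hdψ hχ₁ hd45 hda hdb hdc hdη₁ hdη₂ hdθ₁ hdθ₂ hR11a hR11b hRsq hR5 t₀ ht₀
  rcases v7 with ⟨a1, a2, a3⟩ | ⟨a1, a2, a3⟩ | ⟨a1, a2, a3⟩
  · refine tab_of hG ψ χ₁ χ45 χa χb χc η₁ η₂ θ₁ θ₂ hbij hdψ hχ₁ hd45 hda hdb hdc hdη₁ hdη₂
      hdθ₁ hdθ₂ (fun t ht => ?_) (fun x hx => ?_)
    · rw [hcl ψ t ht, hcl χ45 t ht, hcl χa t ht, hcl χb t ht, hcl χc t ht, hcl η₁ t ht,
        hcl η₂ t ht, hcl θ₁ t ht, hcl θ₂ t ht]
      exact ⟨v1, v2, a1, a2, a3, v3, v4, v5, v6⟩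
    · obtain ⟨-, b1, b2, b3, b4, b5, b6, b7, b8, b9⟩ := h3 x hx
      exact ⟨b1, b2, b3, b4, b5, b6, b7, b8, b9⟩
  · have hbij' : Function.Bijective
        (![ψ, χ₁, χ45, χb, χa, χc, η₁, η₂, θ₁, θ₂] : Fin 10 → IrrCharacter G) := by
      have h := hbij.comp (Equiv.swap (3 : Fin 10) 4).bijective
      convert h using 1
      funext i
      fin_cases i <;> simp [Equiv.swap_apply_def]
    refine tab_of hG ψ χ₁ χ45 χb χa χc η₁ η₂ θ₁ θ₂ hbij' hdψ hχ₁ hd45 hdb hda hdc hdη₁ hdη₂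
      hdθ₁ hdθ₂ (fun t ht => ?_) (fun x hx => ?_)
    · rw [hcl ψ t ht, hcl χ45 t ht, hcl χa t ht, hcl χb t ht, hcl χc t ht, hcl η₁ t ht,
        hcl η₂ t ht, hcl θ₁ t ht, hcl θ₂ t ht]
      exact ⟨v1, v2, a2, a1, a3, v3, v4, v5, v6⟩
    · obtain ⟨-, b1, b2, b3, b4, b5, b6, b7, b8, b9⟩ := h3 x hx
      exact ⟨b1, b2, b4, b3, b5, b6, b7, b8, b9⟩
  · have hbij' : Function.Bijective
        (![ψ, χ₁, χ45, χc, χb, χa, η₁, η₂, θ₁, θ₂] : Fin 10 → IrrCharacter G) := by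
      have h := hbij.comp (Equiv.swap (3 : Fin 10) 5).bijective
      convert h using 1
      funext i
      fin_cases i <;> simp [Equiv.swap_apply_def]
    refine tab_of hG ψ χ₁ χ45 χc χb χa η₁ η₂ θ₁ θ₂ hbij' hdψ hχ₁ hd45 hdc hdb hda hdη₁ hdη₂
      hdθ₁ hdθ₂ (fun t ht => ?_) (fun x hx => ?_)
    · rw [hcl ψ t ht, hcl χ45 t ht, hcl χa t ht, hcl χb t ht, hcl χc t ht, hcl η₁ t ht,
        hcl η₂ t ht, hcl θ₁ t ht, hcl θ₂ t ht]
      exact ⟨v1, v2, a3, a2, a1, v3, v4, v5, v6⟩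
    · obtain ⟨-, b1, b2, b3, b4, b5, b6, b7, b8, b9⟩ := h3 x hx
      exact ⟨b1, b2, b5, b4, b3, b6, b7, b8, b9⟩

end Cfsg.Agent.Lib.Helper93.M11U
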