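import Mathlib
import Cfsg.Agent.Lib.Helper93.M11U.Defs

set_option autoImplicit false

/-!
# S0420, package [Y0FIX]: `Y0` has a one-dimensional fixed space in `χa`
-/

namespace Cfsg.Agent.Lib.Helper93.M11U

universe u

/-- an irreducible character is a character -/
theorem isChar_of_irr' {G : Type u} [Group G] (χ : Cfsg.IrrCharacter G) :
    Cfsg.IsCharacter G (χ : G → ℂ) := by
  obtain ⟨n, ρ, -, h⟩ := χ.2
  exact ⟨n, ρ, h⟩

/-- the two fixed-space dimensions of a character for `X ≤ Y` with `|X| = 60`, `|Y| = 120` -/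
theorem dims_of {G : Type u} [Group G] [Finite G] (hFD : PkgFixDim.{u}) (χ : Cfsg.IrrCharacter G)
    (X Y : Subgroup G) (hXY : X ≤ Y) (hX : Nat.card X = 60) (hY : Nat.card Y = 120) (k : ℕ)
    (hk : sumOn (χ : G → ℂ) X = 60 * (k : ℂ)) :
    ∃ d : ℕ, d ≤ k ∧ sumOn (χ : G → ℂ) Y = 120 * (d : ℂ) := by
  obtain ⟨d, hd, hanti⟩ := hFD G (χ : G → ℂ) (isChar_of_irr' χ)
  refine ⟨d Y, ?_, ?_⟩
  · have h1 := hd X
    rw [hX, hk] at h1
    have h2 : (k : ℂ) = (d X : ℂ) := by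
      have h3 : (60 : ℂ) ≠ 0 := by norm_num
      push_cast at h1
      exact mul_left_cancel₀ h3 h1
    have h4 : k = d X := by exact_mod_cast h2
    rw [h4]
    exact hanti X Y hXY
  · rw [hd Y, hY]
    norm_num

set_option maxHeartbeats 800000 in
/-- **Package [Y0FIX]** -/
theorem pkgY0Fix : PkgY0Fix.{u} := by
  intro G _ _ T hG C hX0F hY0F hFD hRS hA5
  obtain ⟨hiso, hX0card, -, -, -⟩ := hX0F
  obtain ⟨hY0card, hXY, -, -⟩ := hY0F
  obtain ⟨s1, s2, s3, s4, s5, s6, s7, s8, s9, s10⟩ := hA5 G T (X0 C) hiso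
  obtain ⟨dψ, hdψ, eψ⟩ := dims_of hFD T.ψ (X0 C) (Y0 C) hXY hX0card hY0card 1
    (by rw [s2]; norm_num)
  obtain ⟨d45, hd45, e45⟩ := dims_of hFD T.χ45 (X0 C) (Y0 C) hXY hX0card hY0card 0
    (by rw [s3]; norm_num)
  obtain ⟨da, hda, ea⟩ := dims_of hFD T.χa (X0 C) (Y0 C) hXY hX0card hY0card 1
    (by rw [s4]; norm_num)
  obtain ⟨db, hdb, eb⟩ := dims_of hFD T.χb (X0 C) (Y0 C) hXY hX0card hY0card 0
    (by rw [s5]; norm_num)
  obtain ⟨dc, hdc, ec⟩ := dims_of hFD T.χc (X0 C) (Y0 C) hXY hX0card hY0card 0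
    (by rw [s6]; norm_num)
  obtain ⟨dη₁, hdη₁, eη₁⟩ := dims_of hFD T.η₁ (X0 C) (Y0 C) hXY hX0card hY0card 0
    (by rw [s7]; norm_num)
  obtain ⟨dη₂, hdη₂, eη₂⟩ := dims_of hFD T.η₂ (X0 C) (Y0 C) hXY hX0card hY0card 0
    (by rw [s8]; norm_num)
  obtain ⟨dθ₁, hdθ₁, eθ₁⟩ := dims_of hFD T.θ₁ (X0 C) (Y0 C) hXY hX0card hY0card 2
    (by rw [s9]; norm_num)
  obtain ⟨dθ₂, hdθ₂, eθ₂⟩ := dims_of hFD T.θ₂ (X0 C) (Y0 C) hXY hX0card hY0card 1
    (by rw [s10]; norm_num)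
  have e1 : sumOn (T.χ₁ : G → ℂ) (Y0 C) = 120 := by
    unfold sumOn
    have : Fintype (Y0 C) := Fintype.ofFinite _
    rw [finsum_eq_sum_of_fintype]
    simp only [T.one]
    rw [Finset.sum_const, Finset.card_univ, ← Nat.card_eq_fintype_card, hY0card]
    norm_num
  have hreg := hRS G T (Y0 C)
  rw [e1, eψ, e45, ea, eb, ec, eη₁, eη₂, eθ₁, eθ₂, hG] at hreg
  have hnat : 120 + 55 * (120 * dψ) + 45 * (120 * d45) + 10 * (120 * da) + 10 * (120 * db) +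
      10 * (120 * dc) + 16 * (120 * dη₁) + 16 * (120 * dη₂) + 11 * (120 * dθ₁) +
      44 * (120 * dθ₂) = 7920 := by
    exact_mod_cast hreg
  have hda1 : da = 1 := by omega
  rw [ea, hda1]
  norm_num

end Cfsg.Agent.Lib.Helper93.M11U
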