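import Mathlib
import Cfsg.Agent.Lib.Helper93.M11U.Assembly
import Cfsg.Agent.Lib.Helper93.M11U.Tab
import Cfsg.Agent.Lib.Helper93.M11U.X1
import Cfsg.Agent.Lib.Helper93.M11U.Perm2
import Cfsg.Agent.Lib.Helper93.M11U.RegSum
import Cfsg.Agent.Lib.Helper93.M11U.Y0Fix
import Cfsg.Agent.Lib.Helper93.M11U.FU
import Cfsg.Agent.Lib.Helper43.M11U.FixDim
import Cfsg.Agent.Lib.Helper43.M11U.Stab
import Cfsg.Agent.Lib.Helper10.M11U.Sharp
import Cfsg.Agent.Lib.Helper67.M11U.Steiner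
import Cfsg.Agent.Lib.Helper67.M11U.Embed
import Cfsg.Agent.Lib.Helper4.M11U.K12
import Cfsg.Agent.Lib.Helper4.M11U.F20
import Cfsg.Agent.Lib.Helper20.M11U.KSimple
import Cfsg.Agent.Lib.Helper25.M11U.Rank2
import Cfsg.Agent.Lib.Helper25.M11U.M720
import Cfsg.Agent.Lib.Helper25.M11U.Idx11
import Cfsg.Agent.Lib.Helper97.M11U.X0
import Cfsg.Agent.Lib.Helper64.M11U.A5Sum
import Cfsg.Agent.Lib.Helper56.M11U.Y0Card
import Cfsg.Agent.Lib.Helper56.M11U.Dih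

set_option autoImplicit false

/-!
# S0420: all packages but [Y0ISO] assembled
-/

namespace Cfsg.Agent.Lib.Helper93.M11U

universe u

/-- `PkgMain` from the single remaining package [Y0ISO] -/
theorem pkgMain_of_iso (hY0Iso : PkgY0Iso.{u}) : PkgMain.{u} :=
  main_of Cfsg.Agent.Lib.Helper43.M11U.pkgFixDim Cfsg.Agent.Lib.Helper43.M11U.pkgStab pkgPerm2
    pkgRegSum Cfsg.Agent.Lib.Helper10.M11U.pkgSharp Cfsg.Agent.Lib.Helper67.M11U.pkgSteiner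
    Cfsg.Agent.Lib.Helper67.M11U.pkgEmbed pkgTab Cfsg.Agent.Lib.Helper4.M11U.pkgK12
    Cfsg.Agent.Lib.Helper20.M11U.pkgKSimple Cfsg.Agent.Lib.Helper25.M11U.pkgRank2 pkgFU
    Cfsg.Agent.Lib.Helper97.M11U.pkgX0 Cfsg.Agent.Lib.Helper64.M11U.pkgA5Sum
    Cfsg.Agent.Lib.Helper56.M11U.pkgY0Card hY0Iso Cfsg.Agent.Lib.Helper56.M11U.pkgDih pkgY0Fix
    Cfsg.Agent.Lib.Helper4.M11U.pkgF20 pkgX1 Cfsg.Agent.Lib.Helper25.M11U.pkgM720
    Cfsg.Agent.Lib.Helper25.M11U.pkgIdx11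

end Cfsg.Agent.Lib.Helper93.M11U
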