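import Mathlib
import Cfsg.Agent.Lib.Helper93.M11U.Defs
import Cfsg.Agent.Lib.Helper91.M11Inv
import Cfsg.Agent.S2119

set_option autoImplicit false

/-!
# S0420, package [Y0ISO]: `Y0` is the symmetric group of degree `5`

`Y0` acts faithfully by conjugation on its normal subgroup `X0 ≃ A₅` (an element centralizing
`X0` centralizes `f`, so lies in `⟨f⟩`), and `Aut(A₅) = S₅` (S2119).
-/

namespace Cfsg.Agent.Lib.Helper93.M11U

open Cfsg.Agent.Lib.Helper91.M11

universe u

set_option maxHeartbeats 1600000 in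
/-- **Package [Y0ISO]** -/
theorem pkgY0Iso : PkgY0Iso.{u} := by
  intro G _ _ T hS hG C hX0F hY0F
  classical
  obtain ⟨⟨e⟩, hX0card, hfX0, hu2, hunorm⟩ := hX0F
  obtain ⟨hY0card, hXY, -, -⟩ := hY0F
  have : Fact (Nat.Prime 5) := ⟨by norm_num⟩
  -- `C(⟨f⟩) = ⟨f⟩`
  have hcardF : Nat.card (Subgroup.zpowers C.f) = 5 := by rw [Nat.card_zpowers, C.hf]
  have hpg : IsPGroup 5 (Subgroup.zpowers C.f) :=
    IsPGroup.of_card (n := 1) (by rw [hcardF, pow_one])
  obtain ⟨P, hle⟩ := hpg.exists_le_sylow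
  obtain ⟨hP, -, hCP, -⟩ := sylow5_full hG P
  have hPF : (P : Subgroup G) = Subgroup.zpowers C.f :=
    (Subgroup.eq_of_le_of_card_ge hle (by rw [hcardF, hP])).symm
  rw [hPF] at hCP
  -- `u` normalizes `X0`
  have hu4 : C.u ^ 4 = 1 := by
    have := pow_orderOf_eq_one C.u
    rw [C.hu] at this
    exact this
  have huN : C.u ∈ Subgroup.normalizer (X0 C : Set G) := by
    rw [Subgroup.mem_normalizer_iff]
    intro h
    constructor
    · exact hunorm h
    · intro hh
      have h3 := hunorm _ (hunorm _ (hunorm _ hh))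
      have hu4' : C.u * C.u * C.u * C.u = 1 := by
        rw [← hu4, pow_succ, pow_succ, pow_succ, pow_one]
      have hi4 : C.u⁻¹ * C.u⁻¹ * C.u⁻¹ * C.u⁻¹ = 1 := by
        have : C.u⁻¹ * C.u⁻¹ * C.u⁻¹ * C.u⁻¹ = (C.u * C.u * C.u * C.u)⁻¹ := by group
        rw [this, hu4', inv_one]
      have h4 : C.u * (C.u * (C.u * (C.u * h * C.u⁻¹) * C.u⁻¹) * C.u⁻¹) * C.u⁻¹ =
          (C.u * C.u * C.u * C.u) * h * (C.u⁻¹ * C.u⁻¹ * C.u⁻¹ * C.u⁻¹) := by group
      rw [h4, hu4', hi4, one_mul, mul_one] at h3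
      exact h3
  have hle' : Y0 C ≤ Subgroup.normalizer (X0 C : Set G) := by
    unfold Y0
    apply sup_le
    · exact Subgroup.le_normalizer
    · rw [Subgroup.zpowers_le]
      exact huN
  have hnorm : ∀ y ∈ Y0 C, ∀ x ∈ X0 C, y * x * y⁻¹ ∈ X0 C := by
    intro y hy x hx
    have := hle' hy
    rw [Subgroup.mem_normalizer_iff] at this
    exact (this x).mp hx
  obtain ⟨X, hXdef⟩ : ∃ X : Subgroup (Y0 C), X = (X0 C).subgroupOf (Y0 C) := ⟨_, rfl⟩
  have hXmem : ∀ y : Y0 C, y ∈ X ↔ (y : G) ∈ X0 C := by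
    intro y
    rw [hXdef, Subgroup.mem_subgroupOf]
  have hXn : X.Normal := by
    refine ⟨fun n hn g => ?_⟩
    rw [hXmem] at hn ⊢
    exact hnorm g g.2 n hn
  obtain ⟨eX⟩ : Nonempty (X ≃* alternatingGroup (Fin 5)) := by
    rw [hXdef]
    exact ⟨(Subgroup.subgroupOfEquivOfLe hXY).trans e⟩
  obtain ⟨φ, hφ⟩ : ∃ φ : Y0 C →* MulAut X, φ = MulAut.conjNormal := ⟨_, rfl⟩
  have hφinj : Function.Injective φ := by
    rw [injective_iff_map_eq_one]
    intro z hz
    by_contra hz1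
    have hzG : (z : G) ≠ 1 := fun h => hz1 (Subtype.ext h)
    -- `z` commutes with every element of `X0`
    have hcomm : ∀ x ∈ X0 C, (z : G) * x = x * (z : G) := by
      intro x hx
      have hxX : (⟨x, hXY hx⟩ : Y0 C) ∈ X := by rw [hXmem]; exact hx
      have h1 := congrArg (fun a : MulAut X => ((a ⟨⟨x, hXY hx⟩, hxX⟩ : X) : Y0 C)) hz
      simp only [hφ, MulAut.conjNormal_apply, MulAut.one_apply] at h1
      have h2 := congrArg (fun y : Y0 C => (y : G)) h1
      simp only [Subgroup.coe_mul, Subgroup.coe_inv] at h2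
      calc (z : G) * x = ((z : G) * x * (z : G)⁻¹) * (z : G) := by group
        _ = x * (z : G) := by rw [h2]
    -- `z ∈ ⟨f⟩`
    have hzC : (z : G) ∈ Subgroup.centralizer (Subgroup.zpowers C.f : Set G) := by
      rw [Subgroup.mem_centralizer_iff]
      intro h hh
      obtain ⟨k, rfl⟩ := Subgroup.mem_zpowers_iff.mp hh
      exact ((Commute.zpow_right (show Commute (z : G) C.f from hcomm C.f hfX0) k).eq).symm
    rw [hCP] at hzC
    -- `⟨z⟩ = ⟨f⟩`
    have hzo : orderOf (z : G) = 5 := by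
      have h1 : orderOf (z : G) ∣ 5 := by
        have := orderOf_dvd_natCard (⟨(z : G), hzC⟩ : Subgroup.zpowers C.f)
        rw [hcardF, ← Subgroup.orderOf_coe] at this
        exact this
      rcases (Nat.dvd_prime (by norm_num : Nat.Prime 5)).mp h1 with h | h
      · exact absurd (orderOf_eq_one_iff.mp h) hzG
      · exact h
    have hzz : Subgroup.zpowers (z : G) = Subgroup.zpowers C.f := by
      apply Subgroup.eq_of_le_of_card_ge
      · rw [Subgroup.zpowers_le]; exact hzC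
      · rw [hcardF, Nat.card_zpowers, hzo]
    have hfz : C.f ∈ Subgroup.zpowers (z : G) := by
      rw [hzz]; exact Subgroup.mem_zpowers _
    obtain ⟨j, hj⟩ := Subgroup.mem_zpowers_iff.mp hfz
    -- `X0 ≤ C(⟨f⟩) = ⟨f⟩`
    have hX0le : X0 C ≤ Subgroup.zpowers C.f := by
      intro x hx
      rw [← hCP, Subgroup.mem_centralizer_iff]
      intro h hh
      obtain ⟨k, rfl⟩ := Subgroup.mem_zpowers_iff.mp hh
      have h1 : Commute x (z : G) := (hcomm x hx).symm
      have h2 : Commute x C.f := by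
        rw [← hj]
        exact Commute.zpow_right h1 j
      exact ((Commute.zpow_right h2 k).eq).symm
    have := Nat.le_of_dvd (by rw [hcardF]; norm_num) (Subgroup.card_dvd_of_le hX0le)
    rw [hX0card, hcardF] at this
    norm_num at this
  -- the isomorphisms of automorphism groups
  have hbij5 := Cfsg.Agent.S2119.result 5 (by norm_num) (by norm_num)
  obtain ⟨iso2⟩ : Nonempty (Equiv.Perm (Fin 5) ≃* MulAut ↥(alternatingGroup (Fin 5))) :=
    ⟨MulEquiv.ofBijective _ hbij5⟩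
  obtain ⟨iso1⟩ : Nonempty (MulAut X ≃* MulAut ↥(alternatingGroup (Fin 5))) :=
    ⟨MulAut.congr eX⟩
  obtain ⟨ψ, hψ⟩ : ∃ ψ : Y0 C →* Equiv.Perm (Fin 5),
      ψ = (iso2.symm.toMonoidHom).comp ((iso1.toMonoidHom).comp φ) := ⟨_, rfl⟩
  have hψinj : Function.Injective ψ := by
    rw [hψ]
    exact iso2.symm.injective.comp (iso1.injective.comp hφinj)
  have hcard5 : Nat.card (Equiv.Perm (Fin 5)) = 120 := by
    rw [Nat.card_eq_fintype_card, Fintype.card_perm, Fintype.card_fin]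
    rfl
  have hψbij : Function.Bijective ψ :=
    hψinj.bijective_of_nat_card_le (by rw [hcard5, hY0card])
  exact ⟨MulEquiv.ofBijective ψ hψbij⟩

end Cfsg.Agent.Lib.Helper93.M11U
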